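import Mathlib

/-!
# Flatness of ideally separated modules from flatness modulo `J` and at finitely many primes
-/

universe u

open TensorProduct LinearMap

namespace Groth.Agent.FlatJadic

variable {A : Type u} [CommRing A]

theorem rTensor_injective_of_baseChange (C : Type u) [CommRing C] [Algebra A C] (M : Type u)
    [AddCommGroup M] [Module A M] [Module.Flat C (C ⊗[A] M)] {P Q : Type u} [AddCommGroup P]
    [AddCommGroup Q] [Module A P] [Module A Q] [Module C P] [Module C Q] [IsScalarTower A C P]
    [IsScalarTower A C Q] (f : P →ₗ[A] Q) (g : P →ₗ[C] Q) (hfg : ∀ x, f x = g x)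
    (hf : Function.Injective f) : Function.Injective (f.rTensor M) := by
  let eP := AlgebraTensorModule.cancelBaseChange A C C P M
  let eQ := AlgebraTensorModule.cancelBaseChange A C C Q M
  have hg : Function.Injective g := fun a b h => hf (by rw [hfg, hfg, h])
  have key : ∀ z, eQ (g.rTensor (C ⊗[A] M) z) = f.rTensor M (eP z) := fun z => by
    induction z with
    | zero => simp
    | add a b ha hb => simp only [map_add, ha, hb]
    | tmul x w =>
      induction w with
      | zero => simp
      | add a b ha hb => simp only [tmul_add, map_add, ha, hb]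
      | tmul c m => simp [eP, eQ, hfg]
  intro z w h
  obtain ⟨z, rfl⟩ := eP.surjective z
  obtain ⟨w, rfl⟩ := eP.surjective w
  rw [← key, ← key] at h
  exact congrArg eP (Module.Flat.rTensor_preserves_injective_linearMap g hg (eQ.injective h))

open Submodule in
theorem rTensor_injective_of_torsion (J : Ideal A) (M : Type u) [AddCommGroup M] [Module A M]
    [Module.Flat (A ⧸ J) ((A ⧸ J) ⊗[A] M)] {P Q : Type u} [AddCommGroup P] [AddCommGroup Q]
    [Module A P] [Module A Q] (hP : Module.IsTorsionBySet A P (J : Set A))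
    (hQ : Module.IsTorsionBySet A Q (J : Set A)) (f : P →ₗ[A] Q) (hf : Function.Injective f) :
    Function.Injective (f.rTensor M) := by
  let := hP.module
  let := hQ.module
  have : IsScalarTower A (A ⧸ J) P := hP.isScalarTower
  have : IsScalarTower A (A ⧸ J) Q := hQ.isScalarTower
  let g : P →ₗ[A ⧸ J] Q :=
    { toFun := f, map_add' := f.map_add,
      map_smul' := fun c x => by
        obtain ⟨c, rfl⟩ := Ideal.Quotient.mk_surjective c
        exact f.map_smul c x }
  exact rTensor_injective_of_baseChange (A ⧸ J) M f g (fun _ => rfl) hf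

/-- Dévissage along a finite filtration with steps killed by `J`. -/
theorem rTensor_subtype_injective_of_filtration (J : Ideal A) (M : Type u) [AddCommGroup M] [Module A M]
    [Module.Flat (A ⧸ J) ((A ⧸ J) ⊗[A] M)] {V : Type u} [AddCommGroup V] [Module A V]
    (G : ℕ → Submodule A V) (N : ℕ) (h0 : G 0 = ⊤) (hN : G N = ⊥)
    (hJ : ∀ n, J • G n ≤ G (n + 1)) (hG : ∀ n, Function.Injective ((G n).subtype.rTensor M))
    (W : Submodule A V) : Function.Injective (W.subtype.rTensor M) := by
  suffices H : ∀ k n, n + k = N → ∀ W : Submodule A V, W ≤ G n → ∀ z : W ⊗[A] M,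
      W.subtype.rTensor M z = 0 → z = 0 from
    (injective_iff_map_eq_zero _).2 (H N 0 (zero_add N) W (h0 ▸ le_top))
  intro k
  induction k with
  | zero =>
    intro n hn W hW z _
    rw [Nat.add_zero] at hn
    subst hn
    have hWb : W = ⊥ := le_bot_iff.1 (hN ▸ hW)
    subst hWb
    induction z with
    | zero => rfl
    | add a b ha hb => rw [ha (by simp [Subsingleton.elim a 0]), hb (by simp [Subsingleton.elim b 0]), add_zero]
    | tmul x m => rw [Subsingleton.elim x 0, zero_tmul]
  | succ k ih =>
    intro n hn W hW z hz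
    let W' : Submodule A V := W ⊓ G (n + 1)
    let i : W →ₗ[A] G n := Submodule.inclusion hW
    have hi : i.rTensor M z = 0 := hG n (by
      rw [map_zero, ← rTensor_comp_apply]
      exact hz)
    let K := (G (n + 1)).comap (G n).subtype
    let q : W →ₗ[A] (G n) ⧸ K := K.mkQ ∘ₗ i
    have hker : LinearMap.ker q = W'.comap W.subtype := by
      ext x
      simp [q, i, K, W']
    let P := W ⧸ LinearMap.ker q
    have hQt : Module.IsTorsionBySet A ((G n) ⧸ K) (J : Set A) := by
      rintro y ⟨a, ha⟩
      obtain ⟨y, rfl⟩ := K.mkQ_surjective y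
      show a • K.mkQ y = 0
      rw [← map_smul, Submodule.mkQ_apply, Submodule.Quotient.mk_eq_zero]
      exact hJ n (Submodule.smul_mem_smul ha y.2)
    let f : P →ₗ[A] (G n) ⧸ K := (LinearMap.ker q).liftQ q le_rfl
    have hf : Function.Injective f :=
      LinearMap.ker_eq_bot.1 (Submodule.ker_liftQ_eq_bot _ _ _ le_rfl)
    have hPt : Module.IsTorsionBySet A P (J : Set A) := fun y a => hf (by
      rw [map_smul, map_zero]; exact @hQt (f y) a)
    have h₁ : (LinearMap.ker q).mkQ.rTensor M z = 0 :=
      rTensor_injective_of_torsion J M hPt hQt f hf (by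
        rw [map_zero, ← rTensor_comp_apply]
        show (q.rTensor M) z = 0
        rw [show q = K.mkQ ∘ₗ i from rfl, rTensor_comp_apply, hi, map_zero])
    obtain ⟨w, hw⟩ := ((rTensor_exact M (LinearMap.exact_subtype_mkQ (LinearMap.ker q))
      (Submodule.mkQ_surjective _)) z).1 h₁
    let j : LinearMap.ker q →ₗ[A] W' :=
      LinearMap.codRestrict W' (W.subtype ∘ₗ (LinearMap.ker q).subtype) fun x => by
        have := hker.le x.2
        exact this
    have hj : Function.Injective j := fun a b h => by
      have := congrArg (fun x : W' => (x : V)) h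
      exact Subtype.ext (Subtype.ext this)
    have hw0 : j.rTensor M w = 0 := ih (n + 1) (by omega) W' inf_le_right _ (by
      rw [← rTensor_comp_apply, show W'.subtype ∘ₗ j = W.subtype ∘ₗ (LinearMap.ker q).subtype from rfl,
        rTensor_comp_apply, hw, hz])
    let j' : W' →ₗ[A] W := Submodule.inclusion inf_le_left
    rw [← hw, show (LinearMap.ker q).subtype = j' ∘ₗ j from rfl, rTensor_comp_apply, hw0, map_zero]

theorem rTensor_pi_injective {ι : Type u} [Finite ι] {V : ι → Type u} [∀ i, AddCommGroup (V i)]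
    [∀ i, Module A (V i)] (P : ∀ i, Submodule A (V i)) (M : Type u) [AddCommGroup M] [Module A M]
    (hP : ∀ i, Function.Injective ((P i).subtype.rTensor M)) :
    Function.Injective ((Submodule.pi Set.univ P).subtype.rTensor M) := by
  classical
  cases nonempty_fintype ι
  refine (injective_iff_map_eq_zero _).2 fun z hz => ?_
  let F := Submodule.pi Set.univ P
  let pr : ∀ i, F →ₗ[A] P i := fun i =>
    LinearMap.codRestrict (P i) (LinearMap.proj i ∘ₗ F.subtype) fun x => x.2 i trivial
  let si : ∀ i, P i →ₗ[A] F := fun i =>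
    LinearMap.codRestrict F (LinearMap.single A V i ∘ₗ (P i).subtype) fun x k _ => by
      by_cases h : k = i
      · subst h; simp
      · simp [h]
  have hid : (LinearMap.id : F →ₗ[A] F) = ∑ i, si i ∘ₗ pr i := by
    refine LinearMap.ext fun x => Subtype.ext ?_
    simp only [LinearMap.id_apply, LinearMap.sum_apply, Submodule.coe_sum]
    exact (Finset.univ_sum_single (x : ∀ i, V i)).symm
  have hc : ∀ i, (pr i).rTensor M z = 0 := fun i => hP i (by
    rw [map_zero, ← rTensor_comp_apply,
      show (P i).subtype ∘ₗ pr i = LinearMap.proj i ∘ₗ F.subtype from rfl, rTensor_comp_apply, hz, map_zero])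
  calc z = (LinearMap.id : F →ₗ[A] F).rTensor M z := by simp
    _ = 0 := by
      rw [hid, ← coe_rTensorHom, map_sum, LinearMap.sum_apply]
      refine Finset.sum_eq_zero fun i _ => ?_
      rw [coe_rTensorHom, rTensor_comp_apply, hc, map_zero]

theorem mem_pow_smul_of_le_rTensor {W : Type u} [AddCommGroup W] [Module A W] (I : Ideal A)
    (K : Submodule A W) (hK : K ≤ I • ⊤) (M : Type u) [AddCommGroup M] [Module A M] (w : K ⊗[A] M) :
    K.subtype.rTensor M w ∈ (I • ⊤ : Submodule A (W ⊗[A] M)) := by
  induction w with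
  | zero => simp
  | add a b ha hb => rw [map_add]; exact add_mem ha hb
  | tmul x m =>
    have := Submodule.mem_map_of_mem (f := (TensorProduct.mk A W M).flip m) (hK x.2)
    rw [Submodule.map_smul''] at this
    exact (Submodule.smul_mono le_rfl le_top) this

theorem key_step [IsNoetherianRing A] (J : Ideal A) (M : Type u) [AddCommGroup M] [Module A M]
    [Module.Flat (A ⧸ J) ((A ⧸ J) ⊗[A] M)] {ι : Type u} [Finite ι] (B : ι → Type u)
    [∀ i, CommRing (B i)] [∀ i, Algebra A (B i)] (hflat : ∀ i, Module.Flat (B i) (B i ⊗[A] M))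
    (m : ℕ) (hm : ∀ i, (J.map (algebraMap A (B i))) ^ m = ⊥) (a : Ideal A) (z : a ⊗[A] M)
    (hz : (a : Submodule A A).subtype.rTensor M z = 0) (n : ℕ)
    (hker : ∀ x : a, (∀ i, algebraMap A (B i) x = 0) → x ∈ (J ^ n • ⊤ : Submodule A a)) :
    z ∈ (J ^ n • ⊤ : Submodule A (a ⊗[A] M)) := by
  let P : ℕ → ∀ i, Submodule A (B i) := fun l i => ((J.map (algebraMap A (B i))) ^ l).restrictScalars A
  let G : ℕ → Submodule A (∀ i, B i) := fun l => Submodule.pi Set.univ (P l)
  let φ : A →ₗ[A] (∀ i, B i) := LinearMap.pi fun i => Algebra.linearMap A (B i)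
  let q : a →ₗ[A] (∀ i, B i) := φ ∘ₗ (a : Submodule A A).subtype
  have hG0 : G 0 = ⊤ := eq_top_iff.2 fun x _ i _ => by simp [P]
  have hGm : G m = ⊥ := by
    refine eq_bot_iff.2 fun x hx => (Submodule.mem_bot A).2 (funext fun i => ?_)
    have := hx i trivial
    simp only [P, hm] at this
    exact this
  have hJ : ∀ l, J • G l ≤ G (l + 1) := fun l => Submodule.smul_le.2 fun r hr x hx i _ => by
    show r • x i ∈ (J.map (algebraMap A (B i))) ^ (l + 1)
    rw [Algebra.smul_def, pow_succ']
    exact Ideal.mul_mem_mul (Ideal.mem_map_of_mem _ hr) (hx i trivial)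
  have hinj : ∀ l, Function.Injective ((G l).subtype.rTensor M) := fun l =>
    rTensor_pi_injective (P l) M fun i => by
      have := hflat i
      exact rTensor_injective_of_baseChange (B i) M (P l i).subtype
        ((J.map (algebraMap A (B i))) ^ l : Ideal (B i)).subtype (fun _ => rfl) Subtype.val_injective
  have hW := rTensor_subtype_injective_of_filtration J M G m hG0 hGm hJ hinj (LinearMap.range q)
  have hzq : q.rangeRestrict.rTensor M z = 0 := hW (by
    rw [map_zero, ← rTensor_comp_apply]
    show q.rTensor M z = 0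
    rw [show q = φ ∘ₗ (a : Submodule A A).subtype from rfl, rTensor_comp_apply, hz, map_zero])
  have hex : Function.Exact (LinearMap.ker q).subtype q.rangeRestrict := by
    rw [LinearMap.exact_iff, LinearMap.ker_rangeRestrict, Submodule.range_subtype]
  obtain ⟨w, rfl⟩ := ((rTensor_exact M hex q.surjective_rangeRestrict) z).1 hzq
  exact mem_pow_smul_of_le_rTensor (J ^ n) _ (fun x hx => hker x fun i =>
    congrFun (LinearMap.mem_ker.1 hx) i) M w

theorem flat_localization_tensor (p : Ideal A) [p.IsPrime] (M : Type u) [AddCommGroup M] [Module A M]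
    [Module.Flat (Localization.AtPrime p) (LocalizedModule p.primeCompl M)] :
    Module.Flat (Localization.AtPrime p) (Localization.AtPrime p ⊗[A] M) :=
  Module.Flat.of_linearEquiv ((IsLocalizedModule.isBaseChange p.primeCompl (Localization.AtPrime p)
    (LocalizedModule.mkLinearMap p.primeCompl M)).equiv)

theorem flat_quotient_tensor (L : Type u) [CommRing L] [Algebra A L] (M : Type u) [AddCommGroup M]
    [Module A M] [Module.Flat L (L ⊗[A] M)] (I : Ideal L) :
    Module.Flat (L ⧸ I) ((L ⧸ I) ⊗[A] M) :=
  Module.Flat.of_linearEquiv (AlgebraTensorModule.cancelBaseChange A L (L ⧸ I) (L ⧸ I) M).symm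

theorem map_pow_quotient_eq_bot (L : Type u) [CommRing L] [Algebra A L] [IsLocalRing L] (J : Ideal A)
    (hJ : J.map (algebraMap A L) ≤ IsLocalRing.maximalIdeal L) (m : ℕ) :
    (J.map (algebraMap A (L ⧸ IsLocalRing.maximalIdeal L ^ m))) ^ m = ⊥ := by
  rw [IsScalarTower.algebraMap_eq A L (L ⧸ IsLocalRing.maximalIdeal L ^ m), ← Ideal.map_map,
    ← Ideal.map_pow, Ideal.Quotient.algebraMap_eq, Ideal.map_eq_bot_iff_le_ker, Ideal.mk_ker]
  exact Ideal.pow_right_mono hJ m

/-- The main criterion. -/
theorem flat_of_isHausdorff [IsNoetherianRing A] (J : Ideal A) (M : Type u) [AddCommGroup M] [Module A M]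
    (hsep : ∀ a : Ideal A, IsHausdorff J (↥a ⊗[A] M))
    {ι : Type u} [Finite ι] (p : ι → Ideal A) [∀ i, (p i).IsPrime] (hp : ∀ i, J ≤ p i)
    (htop : ∀ n : ℕ, ∃ m : ℕ, ⨅ i, Ideal.comap (algebraMap A (Localization.AtPrime (p i)))
      (IsLocalRing.maximalIdeal (Localization.AtPrime (p i)) ^ m) ≤ J ^ n)
    [Module.Flat (A ⧸ J) ((A ⧸ J) ⊗[A] M)]
    (hloc : ∀ i, Module.Flat (Localization.AtPrime (p i)) (LocalizedModule (p i).primeCompl M)) :
    Module.Flat A M := by
  rw [Module.Flat.iff_rTensor_injective']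
  intro a
  refine (injective_iff_map_eq_zero _).2 fun z hz => (hsep a).haus z fun n => ?_
  rw [SModEq.zero]
  -- Artin-Rees
  obtain ⟨k, hk⟩ := Ideal.exists_pow_inf_eq_pow_smul J (a : Submodule A A)
  obtain ⟨m, hm⟩ := htop (n + k)
  refine key_step J M (fun i => Localization.AtPrime (p i) ⧸
      (IsLocalRing.maximalIdeal (Localization.AtPrime (p i)) ^ m)) (fun i => ?_) m (fun i => ?_) a z hz n
    fun x hx => ?_
  · have := hloc i
    have := flat_localization_tensor (p i) M
    exact flat_quotient_tensor (Localization.AtPrime (p i)) M _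
  · refine map_pow_quotient_eq_bot _ J ?_ m
    rw [← Localization.AtPrime.map_eq_maximalIdeal]
    exact Ideal.map_mono (hp i)
  have hx' : (x : A) ∈ (J ^ (n + k) : Ideal A) := hm (Ideal.mem_iInf.2 fun i =>
    Ideal.mem_comap.2 (Ideal.Quotient.eq_zero_iff_mem.1 (hx i)))
  have h2 : (x : A) ∈ (J ^ (n + k) • ⊤ ⊓ a : Submodule A A) :=
    ⟨by rwa [smul_eq_mul, Ideal.mul_top], x.2⟩
  rw [hk (n + k) (Nat.le_add_left k n), Nat.add_sub_cancel] at h2
  have h3 : (x : A) ∈ (J ^ n • (a : Submodule A A)) := Submodule.smul_mono le_rfl inf_le_right h2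
  have h4 : (J ^ n • ⊤ : Submodule A a).map (a : Submodule A A).subtype = J ^ n • (a : Submodule A A) := by
    rw [Submodule.map_smul'', Submodule.map_subtype_top]
  obtain ⟨y, hy, hyx⟩ := h4.ge h3
  rwa [← Subtype.ext hyx]

end Groth.Agent.FlatJadic
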