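import Groth.Agent.FlatJadic.Basic

/-!
# Symbolic powers at the associated primes of `A/J` when the graded ring along `J` is flat
-/

universe u

open TensorProduct LinearMap

namespace Groth.Agent.FlatJadic

variable {A : Type u} [CommRing A]

theorem associatedPrimes_pi_subset {M : Type u} [AddCommGroup M] [Module A M] (r : ℕ) :
    associatedPrimes A (Fin r → M) ⊆ associatedPrimes A M := by
  induction r with
  | zero => intro p hp; exact absurd hp not_isAssociatedPrime_of_subsingleton
  | succ r ih =>
    intro p hp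
    have hex : Function.Exact (LinearMap.single A (fun _ : Fin (r + 1) => M) 0)
        (LinearMap.funLeft A M (Fin.succ : Fin r → Fin (r + 1))) := by
      intro x
      constructor
      · intro h
        refine ⟨x 0, funext fun i => ?_⟩
        induction i using Fin.cases with
        | zero => simp
        | succ i => simpa using (congrFun h i).symm
      · rintro ⟨y, rfl⟩
        funext i
        simp [LinearMap.funLeft_apply]
    rcases associatedPrimes.subset_union_of_exact
      (fun a b h => by simpa using congrFun h 0) hex hp with h | h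
    · exact h
    · exact ih h

theorem associatedPrimes_subset_of_flat [IsNoetherianRing A] (J : Ideal A) (N : Type u) [AddCommGroup N]
    [Module A N] [Module.Finite A N] [Module.Flat (A ⧸ J) ((A ⧸ J) ⊗[A] N)] :
    associatedPrimes A ((A ⧸ J) ⊗[A] N) ⊆ associatedPrimes A (A ⧸ J) := by
  have : Module.FinitePresentation (A ⧸ J) ((A ⧸ J) ⊗[A] N) :=
    Module.finitePresentation_iff_finite _ _ |>.2 inferInstance
  have : Module.Projective (A ⧸ J) ((A ⧸ J) ⊗[A] N) := Module.Flat.projective_of_finitePresentation
  obtain ⟨r, f, g, hf, hg, hfg⟩ := Module.Finite.exists_comp_eq_id_of_projective (A ⧸ J) ((A ⧸ J) ⊗[A] N)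
  exact (associatedPrimes.subset_of_injective (f := g.restrictScalars A) hg).trans
    (associatedPrimes_pi_subset r)

theorem associatedPrimes_quotient_pow_subset [IsNoetherianRing A] (J : Ideal A)
    (hgr : ∀ k : ℕ, Module.Flat (A ⧸ J) ((A ⧸ J) ⊗[A] ↥(J ^ k))) (n : ℕ) :
    associatedPrimes A (A ⧸ J ^ n) ⊆ associatedPrimes A (A ⧸ J) := by
  induction n with
  | zero =>
    intro p hp
    have : Subsingleton (A ⧸ J ^ 0) := Ideal.Quotient.subsingleton_iff.2 (by simp)
    exact absurd hp not_isAssociatedPrime_of_subsingleton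
  | succ n ih =>
    intro p hp
    let e := TensorProduct.quotTensorEquivQuotSMul ↥(J ^ n) J
    let f : (↥(J ^ n) ⧸ (J • ⊤ : Submodule A ↥(J ^ n))) →ₗ[A] A ⧸ J ^ (n + 1) :=
      Submodule.mapQ _ _ (J ^ n : Submodule A A).subtype <| by
        rw [← Submodule.map_le_iff_le_comap, Submodule.map_smul'', Submodule.map_subtype_top, pow_succ']
        rfl
    let g : (A ⧸ J ^ (n + 1)) →ₗ[A] A ⧸ J ^ n :=
      Submodule.factor (Ideal.pow_le_pow_right n.le_succ : J ^ (n + 1) ≤ J ^ n)
    have hf : Function.Injective f := by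
      rw [← LinearMap.ker_eq_bot, Submodule.ker_mapQ, eq_bot_iff, Submodule.map_le_iff_le_comap, Submodule.comap_bot, Submodule.ker_mkQ]
      intro x hx
      have h : (x : A) ∈ (J • ⊤ : Submodule A ↥(J ^ n)).map (J ^ n : Submodule A A).subtype := by
        rw [Submodule.map_smul'', Submodule.map_subtype_top]
        rwa [Submodule.mem_comap, Submodule.subtype_apply, pow_succ'] at hx
      obtain ⟨y, hy, hyx⟩ := h
      rwa [← Subtype.ext hyx]
    have hfg : Function.Exact f g := by
      intro x
      obtain ⟨x, rfl⟩ := Submodule.Quotient.mk_surjective _ x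
      constructor
      · intro h
        exact ⟨Submodule.Quotient.mk ⟨x, (Submodule.Quotient.mk_eq_zero _).1 h⟩, rfl⟩
      · rintro ⟨y, hy⟩
        obtain ⟨y, rfl⟩ := Submodule.Quotient.mk_surjective _ y
        rw [← hy]
        exact (Submodule.Quotient.mk_eq_zero _).2 y.2
    rcases associatedPrimes.subset_union_of_exact hf hfg hp with h | h
    · have := hgr n
      exact associatedPrimes_subset_of_flat J ↥(J ^ n)
        (associatedPrimes.subset_of_injective (f := e.symm.toLinearMap) e.symm.injective h)
    · exact ih h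

theorem exists_iInf_symbolic_le [IsNoetherianRing A] (J : Ideal A) (n : ℕ)
    (h : associatedPrimes A (A ⧸ J ^ n) ⊆ associatedPrimes A (A ⧸ J)) :
    ∃ m : ℕ, ⨅ q : associatedPrimes A (A ⧸ J), Ideal.comap (algebraMap A (Localization.AtPrime q.1))
      (IsLocalRing.maximalIdeal (Localization.AtPrime q.1) ^ m) ≤ J ^ n := by
  obtain ⟨t, ht⟩ := Submodule.IsLasker.exists_isMinimalPrimaryDecomposition (Submodule.isLasker A A) (J ^ n)
  have hex : ∀ Q ∈ t, ∃ m : ℕ, ((Q : Submodule A A).colon Set.univ).radical ^ m ≤
      (Q : Submodule A A).colon Set.univ :=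
    fun Q _ => Ideal.exists_radical_pow_le_of_fg _ (IsNoetherian.noetherian _)
  choose m hm using hex
  classical
  refine ⟨t.attach.sup fun Q => m Q.1 Q.2, ?_⟩
  intro x hx
  rw [← ht.inf_eq]
  simp only [Submodule.mem_finsetInf, id_eq]
  intro Q hQ
  have hass : ((Q : Submodule A A).colon Set.univ).radical ∈ associatedPrimes A (A ⧸ J ^ n) := by
    obtain ⟨hp, y, hy⟩ := ht.mem_associatedPrimes hQ
    refine ⟨hp, Submodule.Quotient.mk y, hy.trans ?_⟩
    congr 1
    ext a
    simp [Submodule.mem_colon_singleton, Algebra.smul_def, ← map_mul, Ideal.Quotient.eq_zero_iff_mem]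
  let q : associatedPrimes A (A ⧸ J) := ⟨_, h hass⟩
  have : q.1.IsPrime := hass.1
  have hx' := Ideal.mem_comap.1 (Ideal.mem_iInf.1 hx q)
  rw [← Localization.AtPrime.map_eq_maximalIdeal, ← Ideal.map_pow,
    IsLocalization.algebraMap_mem_map_algebraMap_iff q.1.primeCompl] at hx'
  obtain ⟨s, hs, hsx⟩ := hx'
  have hs' : s • x ∈ Q := by
    have hsc := hm Q hQ (Ideal.pow_le_pow_right
      (Finset.le_sup (f := fun Q : t => m Q.1 Q.2) (Finset.mem_attach _ ⟨Q, hQ⟩)) hsx)
    simpa [mul_comm] using (Submodule.mem_colon.1 hsc 1 trivial)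
  rcases (ht.primary hQ).mem_or_mem hs' with h1 | h1
  · exact h1
  · exact absurd h1 hs

end Groth.Agent.FlatJadic
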